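import Cfsg.Agent.Lib.ThompsonWielandt.Main

/-!
Wielandt's index bound for the stabilizer in a primitive group.
-/

set_option autoImplicit false
set_option linter.style.haveILetI false
set_option linter.unusedSectionVars false

namespace Cfsg.Agent.Lib.ThompsonWielandt

open Subgroup
open Cfsg.Agent.Lib.Components
open Cfsg.Agent.Lib.Components.MaxLocal (locCore locCore_le le_normalizer_locCore locCore_isPGroup)
open scoped Nat

variable {G : Type*} [Group G] [Finite G]

lemma index_normalCore_dvd (X : Subgroup G) : X.normalCore.index ∣ (X.index)! := by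
  haveI := Fintype.ofFinite (G ⧸ X)
  classical
  rw [normalCore_eq_ker, index_ker, index_eq_card, ← Nat.card_perm]
  exact card_subgroup_dvd_card _

/-- The core of `D` has index in `K` dividing a power of the index of `D`. -/
lemma relIndex_normalCore_dvd {K D X : Subgroup G} [K.Normal] (hD : D ≤ K)
    (hK : K ≤ normalizer (D : Set G)) (hX : X ≤ normalizer (D : Set G)) :
    D.normalCore.relIndex K ∣ (D.relIndex K) ^ X.index := by
  let c : G ⧸ X → Subgroup G := fun q => D.map (MulAut.conj q.out).toMonoidHom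
  have hcK : ∀ q, c q ≤ K := by
    rintro q _ ⟨y, hy, rfl⟩
    simpa using (inferInstance : K.Normal).conj_mem y (hD hy) q.out
  haveI hn : ∀ q, ((c q).subgroupOf K).Normal := fun q => by
    refine normal_subgroupOf_of_le_normalizer (le_trans ?_ (le_normalizer_map_conj q.out hK))
    rw [show K.map (MulAut.conj q.out).toMonoidHom = K from map_conj_eq_of_mem_normalizer
      (by rw [normalizer_eq_top]; trivial)]
  let pr : ↥K →* ((q : G ⧸ X) → ↥K ⧸ (c q).subgroupOf K) :=
    Pi.monoidHom fun q => QuotientGroup.mk' ((c q).subgroupOf K)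
  have hker : pr.ker = D.normalCore.subgroupOf K := by
    ext k
    have : k ∈ pr.ker ↔ ∀ q, (k : G) ∈ c q := by
      rw [MonoidHom.mem_ker, funext_iff]
      exact forall_congr' fun q => QuotientGroup.eq_one_iff k
    rw [this]
    constructor
    · intro h
      show ∀ b : G, b * k * b⁻¹ ∈ D
      intro b
      obtain ⟨y, hy, hyk⟩ := h (QuotientGroup.mk (s := X) b⁻¹)
      obtain ⟨x, hx⟩ : ∃ x : X, (QuotientGroup.mk (s := X) b⁻¹).out = b⁻¹ * x :=
        QuotientGroup.mk_out_eq_mul X b⁻¹
      have he : b * (k : G) * b⁻¹ = x * y * (x : G)⁻¹ := by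
        rw [← hyk]
        simp [hx, mul_assoc]
      rw [he]
      exact (mem_normalizer_iff.1 (hX x.2) y).1 hy
    · intro h q
      exact ⟨q.out⁻¹ * k * q.out, by simpa using h q.out⁻¹, by simp [mul_assoc]⟩
  have hidx : ∀ q, (c q).relIndex K = D.relIndex K := by
    intro q
    have h1 := Nat.card_congr (subgroupOfEquivOfLe (hcK q)).toEquiv
    have h2 := Nat.card_congr (subgroupOfEquivOfLe hD).toEquiv
    have h3 : Nat.card ↥(c q) = Nat.card ↥D := card_map_of_injective (MulAut.conj q.out).injective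
    have h4 := ((c q).subgroupOf K).card_mul_index
    rw [h1, h3, ← (D.subgroupOf K).card_mul_index, h2] at h4
    exact mul_left_cancel₀ Nat.card_pos.ne' h4
  have hdvd := card_subgroup_dvd_card pr.range
  rw [← index_ker, hker] at hdvd
  refine hdvd.trans (dvd_of_eq ?_)
  haveI := Fintype.ofFinite (G ⧸ X)
  rw [Nat.card_pi, Finset.prod_congr rfl fun q _ =>
    (show Nat.card (↥K ⧸ (c q).subgroupOf K) = D.relIndex K from hidx q), Finset.prod_const,
    Finset.card_univ, index_eq_card, Nat.card_eq_fintype_card]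

variable {M N : Subgroup G}

/-- The index of the second core. -/
theorem relIndex_A2_dvd {d : ℕ} (hcard : Nat.card ↥M = Nat.card ↥N) (hd : (M ⊓ N).relIndex M = d) :
    (A2 M N).relIndex M ∣ d ! * ((d - 1)!) ^ d := by
  have hXN : (M ⊓ N).relIndex N = d := by
    have h1 := ((M ⊓ N).subgroupOf M).card_mul_index
    have h2 := ((M ⊓ N).subgroupOf N).card_mul_index
    rw [Nat.card_congr (subgroupOfEquivOfLe (inf_le_left : M ⊓ N ≤ M)).toEquiv] at h1
    rw [Nat.card_congr (subgroupOfEquivOfLe (inf_le_right : M ⊓ N ≤ N)).toEquiv, ← hcard, ← h1] at h2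
    rw [← hd]
    exact mul_left_cancel₀ Nat.card_pos.ne' h2
  have hd0 : 0 < d := Nat.pos_of_ne_zero (hd ▸ index_ne_zero_of_finite)
  let X' := (M ⊓ N).subgroupOf M
  let K := X'.normalCore
  let D := ((A1 M N ⊓ A1 N M).subgroupOf M)
  have hA1 : (A1 M N).subgroupOf M = K := comap_map_eq_self_of_injective M.subtype_injective _
  have hA2 : (A2 M N).subgroupOf M = D.normalCore :=
    comap_map_eq_self_of_injective M.subtype_injective _
  have hDK : D ≤ K := by
    rw [← hA1]; exact comap_mono inf_le_left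
  have hKX : K ≤ X' := normalCore_le _
  have hXD : X' ≤ normalizer (D : Set ↥M) := by
    refine (comap_mono (f := M.subtype) ?_).trans (le_normalizer_comap _)
    exact le_trans (le_inf (inf_le_left.trans le_nz_A1) (inf_le_right.trans le_nz_A1))
      inf_normalizer_le_normalizer_inf
  have h1 : K.index ∣ d ! := hd ▸ index_normalCore_dvd X'
  have h2 : D.relIndex K ∣ (d - 1)! := by
    have hBX : A1 N M ≤ M ⊓ N := le_inf A1_le_right A1_le_left
    have hB : (A1 N M).relIndex N ∣ d ! := by
      have e : (A1 N M).subgroupOf N = ((N ⊓ M).subgroupOf N).normalCore :=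
        comap_map_eq_self_of_injective N.subtype_injective _
      rw [relIndex, e, inf_comm]
      exact hXN ▸ index_normalCore_dvd _
    rw [← relIndex_mul_relIndex _ _ _ hBX inf_le_right, hXN,
      ← Nat.mul_factorial_pred hd0.ne', mul_comm d] at hB
    refine dvd_trans ?_ (Nat.dvd_of_mul_dvd_mul_right hd0 hB)
    rw [show D.relIndex K = (A1 M N ⊓ A1 N M).relIndex (A1 M N) by
      rw [← hA1, relIndex_subgroupOf A1_le_left], inf_comm, inf_relIndex_right]
    haveI : ((A1 N M).subgroupOf (M ⊓ N)).Normal :=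
      normal_subgroupOf_of_le_normalizer (inf_le_right.trans le_nz_A1)
    have hAX : A1 M N ≤ M ⊓ N := le_inf A1_le_left A1_le_right
    have := relIndex_dvd_index_of_normal ((A1 N M).subgroupOf (M ⊓ N)) ((A1 M N).subgroupOf (M ⊓ N))
    rwa [relIndex_subgroupOf hAX] at this
  have h3 : D.normalCore.relIndex K ∣ ((d - 1)!) ^ d :=
    (relIndex_normalCore_dvd hDK (hKX.trans hXD) hXD).trans
      (by rw [show X'.index = d from hd]; exact pow_dvd_pow_of_dvd h2 d)
  rw [relIndex, hA2, ← relIndex_mul_index ((normalCore_le D).trans hDK), mul_comm]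
  exact mul_dvd_mul h1 h3

/-- Either both second cores are nontrivial, or the order of `M` is bounded. -/
theorem pair_or_card_dvd {d : ℕ} (hcard : Nat.card ↥M = Nat.card ↥N)
    (hd : (M ⊓ N).relIndex M = d) :
    (A2 M N ≠ ⊥ ∧ A2 N M ≠ ⊥) ∨ Nat.card ↥M ∣ d ! * ((d - 1)!) ^ d := by
  by_cases h : A2 M N = ⊥
  · right
    have := relIndex_A2_dvd hcard hd
    rwa [h, relIndex_bot_left] at this
  by_cases h' : A2 N M = ⊥
  · right
    have hd' : (N ⊓ M).relIndex N = d := by
      have h1 := ((M ⊓ N).subgroupOf M).card_mul_index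
      have h2 := ((M ⊓ N).subgroupOf N).card_mul_index
      rw [Nat.card_congr (subgroupOfEquivOfLe (inf_le_left : M ⊓ N ≤ M)).toEquiv] at h1
      rw [Nat.card_congr (subgroupOfEquivOfLe (inf_le_right : M ⊓ N ≤ N)).toEquiv, ← hcard, ← h1] at h2
      rw [inf_comm, ← hd]
      exact mul_left_cancel₀ Nat.card_pos.ne' h2
    have := relIndex_A2_dvd hcard.symm hd'
    rwa [h', relIndex_bot_left, ← hcard] at this
  exact Or.inl ⟨h, h'⟩

/-- If every normal `t`-subgroup of `M ⊓ N` fixes the suborbit pointwise, there is none. -/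
theorem locCore_inf_eq_bot {t : ℕ} [Fact t.Prime] (hmax : IsCoatom M) (hmaxN : IsCoatom N)
    (hne : M ≠ N) (hcM : M.normalCore = ⊥) (hcN : N.normalCore = ⊥)
    (hcard : Nat.card ↥(locCore t M) = Nat.card ↥(locCore t N))
    (hZ : locCore t (M ⊓ N) ≤ A1 M N) : locCore t (M ⊓ N) = ⊥ := by
  have hnz : ∀ {L U : Subgroup G}, IsCoatom L → L.normalCore = ⊥ → U ≠ ⊥ → U ≤ L →
      L ≤ normalizer (U : Set G) → normalizer (U : Set G) = L := by
    intro L U hL hc h0 hU hn
    refine (hL.le_iff_eq fun e => ?_).1 hn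
    haveI : U.Normal := normalizer_eq_top_iff.1 e
    exact h0 (le_bot_iff.1 (hc ▸ normal_le_normalCore.2 hU))
  let Z := locCore t (M ⊓ N)
  by_contra hZ0
  have hZe : Z = Cfsg.pCoreOf t (A1 M N) := by
    refine le_antisymm (Cfsg.Agent.Lib.LocalChar.le_pCoreOf hZ
      ((le_inf A1_le_left A1_le_right).trans (le_normalizer_locCore t _))
      (locCore_isPGroup t _)) ?_
    refine Cfsg.Agent.Lib.LocalChar.le_pCoreOf
      ((Cfsg.Agent.Lib.LocalChar.pCoreOf_le _).trans (le_inf A1_le_left A1_le_right)) ?_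
      (Cfsg.Agent.Lib.LocalChar.isPGroup_pCoreOf _)
    exact (inf_le_left.trans le_nz_A1).trans (Cfsg.Agent.Lib.LocalChar.nz_le_nz_pCoreOf _)
  have hMZ : M ≤ normalizer (Z : Set G) := by
    rw [hZe]
    exact le_nz_A1.trans (Cfsg.Agent.Lib.LocalChar.nz_le_nz_pCoreOf _)
  have hZM : Z ≤ M := (locCore_le t _).trans inf_le_left
  have hNZ := hnz hmax hcM hZ0 hZM hMZ
  let Q := locCore t N
  let U := locCore t M
  have hZU : Z ≤ U := fun x hx => ⟨⟨x, hZM hx⟩, le_pCore (N := Z.subgroupOf M)
    (hN := normal_subgroupOf_of_le_normalizer hMZ) (locCore_isPGroup t _).comap_subtype hx, rfl⟩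
  have hTZ : Q ⊓ M ≤ Z := by
    intro x hx
    exact ⟨⟨x, hx.2, locCore_le t N hx.1⟩, le_pCore (N := (Q ⊓ M).subgroupOf (M ⊓ N))
      (hN := normal_subgroupOf_of_le_normalizer (locCore_inf_le_nz t M N))
      ((locCore_isPGroup t N).to_le inf_le_left).comap_subtype hx, rfl⟩
  have hQZ : Q ≤ Z := by
    by_contra hc
    have hn : Z ≤ normalizer (Q : Set G) :=
      ((locCore_le t _).trans inf_le_right).trans (le_normalizer_locCore t N)
    have hpg : IsPGroup t ↥(Q ⊔ Z) :=
      (isCoreClass_pGroup t).sup Q Z hn (locCore_isPGroup t N) (locCore_isPGroup t _)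
    have hlt : Z < Q ⊔ Z := lt_of_le_of_ne le_sup_right fun e => hc (e ▸ le_sup_left)
    obtain ⟨w, hw, hwZ, hwn⟩ := Cfsg.Agent.Lib.LocalChar.exists_mem_nz_of_lt hpg hlt
    obtain ⟨u, hu, v, hv, rfl⟩ := (Cfsg.Agent.Lib.LocalChar.mem_sup_iff_of_nz' hn).1 hw
    refine hwZ (mul_mem (hTZ ⟨hu, ?_⟩) hv)
    have := hNZ.le hwn
    simpa using mul_mem this (inv_mem (hZM hv))
  have heq : Q = U := eq_of_le_of_card_ge (hQZ.trans hZU) hcard.le
  have hU0 : U ≠ ⊥ := ne_bot_of_le_ne_bot hZ0 hZU
  exact hne ((hnz hmax hcM hU0 (locCore_le t M) (le_normalizer_locCore t M)).symm.trans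
    (hnz hmaxN hcN hU0 (heq ▸ locCore_le t N) (heq ▸ le_normalizer_locCore t N)))

variable {Ω : Type*} [MulAction G Ω]

/-- The two point stabilizers in a primitive group. -/
theorem stabilizer_data [Finite Ω] [FaithfulSMul G Ω] (hprim : MulAction.IsPreprimitive G Ω) {a b : Ω} {d : ℕ}
    (hd : Nat.card (MulAction.orbit (MulAction.stabilizer G a) b) = d) (h2 : 2 ≤ d) :
    IsCoatom (MulAction.stabilizer G a) ∧ IsCoatom (MulAction.stabilizer G b) ∧
    MulAction.stabilizer G a ≠ MulAction.stabilizer G b ∧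
    (MulAction.stabilizer G a).normalCore = ⊥ ∧ (MulAction.stabilizer G b).normalCore = ⊥ ∧
    Nat.card ↥(MulAction.stabilizer G a) = Nat.card ↥(MulAction.stabilizer G b) ∧
    (MulAction.stabilizer G a ⊓ MulAction.stabilizer G b).relIndex (MulAction.stabilizer G a) = d ∧
    ∀ t : ℕ, Nat.card ↥(locCore t (MulAction.stabilizer G a)) =
      Nat.card ↥(locCore t (MulAction.stabilizer G b)) := by
  haveI := hprim.toIsPretransitive
  haveI : Nontrivial (MulAction.orbit (MulAction.stabilizer G a) b) :=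
    Finite.one_lt_card_iff_nontrivial.1 (by omega)
  haveI : Nontrivial Ω := by
    obtain ⟨x, y, hxy⟩ := exists_pair_ne (MulAction.orbit (MulAction.stabilizer G a) b)
    exact ⟨x, y, fun e => hxy (Subtype.ext e)⟩
  have hcore : ∀ x : Ω, (MulAction.stabilizer G x).normalCore = ⊥ := by
    intro x
    refine (Subgroup.eq_bot_iff_forall _).2 fun g hg => eq_of_smul_eq_smul (α := Ω) fun y => ?_
    obtain ⟨k, rfl⟩ := MulAction.exists_smul_eq G x y
    have h1 : (k⁻¹ * g * k) • x = x := by
      simpa using MulAction.mem_stabilizer_iff.1 (hg k⁻¹)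
    rw [mul_smul, mul_smul, inv_smul_eq_iff] at h1
    rw [h1, one_smul]
  obtain ⟨g, hg⟩ := MulAction.exists_smul_eq G a b
  let e : ↥(MulAction.stabilizer G a) ≃* ↥(MulAction.stabilizer G b) :=
    ((MulAction.stabilizer G a).equivMapOfInjective (MulAut.conj g).toMonoidHom
      (MulAut.conj g).injective).trans (MulEquiv.subgroupCongr (by
        rw [← hg]; exact (MulAction.stabilizer_smul_eq_stabilizer_map_conj g a).symm))
  refine ⟨(MulAction.isCoatom_stabilizer_iff_preprimitive G a).2 hprim,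
    (MulAction.isCoatom_stabilizer_iff_preprimitive G b).2 hprim, ?_, hcore a, hcore b,
    Nat.card_congr e.toEquiv, ?_, fun t => ?_⟩
  · intro heq
    obtain ⟨x, hx⟩ := exists_ne (⟨b, MulAction.mem_orbit_self b⟩ :
      MulAction.orbit (MulAction.stabilizer G a) b)
    obtain ⟨⟨k, hk⟩, hkx⟩ := x.2
    refine hx (Subtype.ext ?_)
    rw [heq] at hk
    exact hkx.symm.trans hk
  · rw [← hd, inf_relIndex_left, Nat.card_coe_set_eq,
      ← MulAction.index_stabilizer (MulAction.stabilizer G a) b, relIndex]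
    rfl
  · rw [locCore, locCore, card_map_of_injective (MulAction.stabilizer G a).subtype_injective,
      card_map_of_injective (MulAction.stabilizer G b).subtype_injective]
    have key : ∀ {H K : Subgroup G} (e : ↥H ≃* ↥K),
        Nat.card ↥(pCore t ↥H) ≤ Nat.card ↥(pCore t ↥K) := fun {H K} e => by
      rw [← card_map_of_injective (K := pCore t ↥H) (f := e.toMonoidHom) e.injective]
      haveI := (Cfsg.pCore_normal t ↥H).map e.toMonoidHom e.surjective
      exact card_le_of_le (le_pCore ((pCore_isPGroup t).map _))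
    exact le_antisymm (key e) (key e.symm)

end Cfsg.Agent.Lib.ThompsonWielandt
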