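import Cfsg.Agent.Lib.Components.MaxLocal
import Cfsg.Agent.Lib.LocalChar.Subnormal

/-!
A form of the Thompson-Wielandt theorem on two conjugate maximal subgroups with trivial core.
-/

set_option autoImplicit false
set_option linter.style.haveILetI false
set_option linter.unusedSectionVars false

namespace Cfsg.Agent.Lib.ThompsonWielandt

open Subgroup
open Cfsg.Agent.Lib.Components
open Cfsg.Agent.Lib.Components.MaxLocal (locCore locCore_le le_normalizer_locCore locCore_isPGroup
  inf_locCore_eq_bot commute_locCore le_normalizer_map_subtype)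
open Cfsg.Agent.Lib.LocalChar (resOf resOf_le le_nz_iff)
open scoped commutatorElement

variable {G : Type*} [Group G] [Finite G]

/-- The core in `M` of `Y`, as a subgroup of `G`. -/
def cm (M Y : Subgroup G) : Subgroup G := (Y.subgroupOf M).normalCore.map M.subtype

/-- The first core. -/
def A1 (M N : Subgroup G) : Subgroup G := cm M (M ⊓ N)

/-- The second core. -/
def A2 (M N : Subgroup G) : Subgroup G := cm M (A1 M N ⊓ A1 N M)

lemma cm_le (M Y : Subgroup G) : cm M Y ≤ M := map_subtype_le _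

lemma cm_le_right (M Y : Subgroup G) : cm M Y ≤ Y := by
  rintro _ ⟨x, hx, rfl⟩
  exact normalCore_le (Y.subgroupOf M) hx

lemma le_normalizer_cm (M Y : Subgroup G) : M ≤ normalizer (cm M Y : Set G) :=
  le_normalizer_map_subtype _

lemma le_cm {M Y L : Subgroup G} (h₁ : L ≤ Y) (h₂ : L ≤ M) (h₃ : M ≤ normalizer (L : Set G)) :
    L ≤ cm M Y := by
  intro x hx
  haveI : (L.subgroupOf M).Normal := normal_subgroupOf_of_le_normalizer h₃
  exact ⟨⟨x, h₂ hx⟩, normal_le_normalCore.2
    (fun y hy => h₁ hy : L.subgroupOf M ≤ Y.subgroupOf M) hx, rfl⟩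

/-- Two maximal subgroups with trivial core whose local cores have the same orders. -/
structure Pair (M N : Subgroup G) : Prop where
  maxM : IsCoatom M
  maxN : IsCoatom N
  ne : M ≠ N
  coreM : M.normalCore = ⊥
  coreN : N.normalCore = ⊥
  card : ∀ t : ℕ, Nat.card ↥(locCore t M) = Nat.card ↥(locCore t N)
  A2M : A2 M N ≠ ⊥
  A2N : A2 N M ≠ ⊥

variable {M N : Subgroup G}

lemma Pair.swap (h : Pair M N) : Pair N M :=
  ⟨h.maxN, h.maxM, h.ne.symm, h.coreN, h.coreM, fun t => (h.card t).symm, h.A2N, h.A2M⟩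

lemma A1_le_left : A1 M N ≤ M := cm_le _ _

lemma A1_le_right : A1 M N ≤ N := (cm_le_right _ _).trans inf_le_right

lemma A2_le_A1 : A2 M N ≤ A1 M N := (cm_le_right _ _).trans inf_le_left

lemma A2_le_B1 : A2 M N ≤ A1 N M := (cm_le_right _ _).trans inf_le_right

lemma le_nz_A1 : M ≤ normalizer (A1 M N : Set G) := le_normalizer_cm _ _

lemma le_nz_A2 : M ≤ normalizer (A2 M N : Set G) := le_normalizer_cm _ _

lemma Pair.normalizer_eq (h : Pair M N) {U : Subgroup G} (h0 : U ≠ ⊥) (hU : U ≤ M)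
    (hn : M ≤ normalizer (U : Set G)) : normalizer (U : Set G) = M := by
  refine (h.maxM.le_iff_eq fun e => ?_).1 hn
  haveI : U.Normal := normalizer_eq_top_iff.1 e
  exact h0 (le_bot_iff.1 (h.coreM ▸ normal_le_normalCore.2 hU))

lemma Pair.eq_bot_of_both (h : Pair M N) {U : Subgroup G} (hM : U ≤ M) (hN : U ≤ N)
    (hnM : M ≤ normalizer (U : Set G)) (hnN : N ≤ normalizer (U : Set G)) : U = ⊥ := by
  by_contra h0
  exact h.ne ((h.normalizer_eq h0 hM hnM).symm.trans (h.swap.normalizer_eq h0 hN hnN))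

/-- A subgroup of `N ⊓ M` normalized by `N` lies in the first core of `N`. -/
lemma le_A1 {L : Subgroup G} (hM : L ≤ M) (hN : L ≤ N) (hn : N ≤ normalizer (L : Set G)) :
    L ≤ A1 N M := le_cm (le_inf hN hM) hN hn

lemma sn_trans {L B K : Subgroup G} (hLB : L ≤ B) (hBK : B ≤ K)
    (h₁ : (L.subgroupOf B).IsSubnormal) (h₂ : (B.subgroupOf K).IsSubnormal) :
    (L.subgroupOf K).IsSubnormal := by
  refine IsSubnormal.trans (fun x hx => hLB hx) ?_ h₂
  have : (L.subgroupOf K).subgroupOf (B.subgroupOf K) =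
      (L.subgroupOf B).comap (subgroupOfEquivOfLe hBK).toMonoidHom := by
    ext x; rfl
  rw [this]
  exact h₁.comap _

/-- A subgroup of `B₁` normalized by `B₁` is subnormal in `N`. -/
lemma sn_of_le_A1 {L : Subgroup G} (hL : L ≤ A1 N M) (hn : A1 N M ≤ normalizer (L : Set G)) :
    (L.subgroupOf N).IsSubnormal :=
  sn_trans hL A1_le_left (normal_subgroupOf_of_le_normalizer hn).isSubnormal
    (normal_subgroupOf_of_le_normalizer (le_nz_A1 (M := N) (N := M))).isSubnormal

lemma le_locCore_of_sn {t : ℕ} {L : Subgroup G} (hL : L ≤ N) (hs : (L.subgroupOf N).IsSubnormal)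
    (hp : IsPGroup t ↥L) : L ≤ locCore t N := fun x hx =>
  ⟨⟨x, hL hx⟩, le_pCore_of_subnormal hs hp.comap_subtype hx, rfl⟩

/-- A normal `t`-subgroup of `M` lying in `B₁` lies in `O_t(N)`. -/
lemma le_locCore_of_le_A1 {t : ℕ} {L : Subgroup G} (hL : L ≤ A1 N M)
    (hn : A1 N M ≤ normalizer (L : Set G)) (hp : IsPGroup t ↥L) : L ≤ locCore t N :=
  le_locCore_of_sn (hL.trans A1_le_left) (sn_of_le_A1 hL hn) hp

lemma Pair.centralizer_A1_le (h : Pair M N) :
    N ⊓ centralizer (A1 N M : Set G) ≤ A1 N M := by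
  have hM : N ⊓ centralizer (A1 N M : Set G) ≤ M := by
    refine inf_le_right.trans ?_
    exact ((Subgroup.centralizer_le (A2_le_B1 (M := M) (N := N))).trans
      (Subgroup.centralizer_le_normalizer _)).trans (h.normalizer_eq h.A2M (cm_le _ _) le_nz_A2).le
  exact le_A1 hM inf_le_left (le_trans (le_inf le_normalizer
    ((le_nz_A1).trans (Cfsg.Agent.Lib.Coprime.normalizer_le_normalizer_centralizer _)))
    inf_normalizer_le_normalizer_inf)

lemma Pair.layer_map_le_A1 (h : Pair M N) : (layer ↥N).map N.subtype ≤ A1 N M := by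
  refine le_A1 ?_ (map_subtype_le _) (le_normalizer_map_subtype _)
  rw [← h.normalizer_eq h.A2M (cm_le _ _) le_nz_A2, map_le_iff_le_comap, layer_le_iff]
  intro L hL x hx
  have hle : A2 M N ≤ N := A2_le_B1.trans A1_le_left
  have hs := sn_of_le_A1 (A2_le_B1 (M := M) (N := N)) (A1_le_right.trans le_nz_A2)
  have h1 : x ∈ normalizer (((A2 M N).subgroupOf N : Subgroup ↥N) : Set ↥N) := by
    rcases comp_subnormal_dichotomy hL hs with h2 | h2
    · exact le_normalizer (h2 hx)
    · exact Subgroup.centralizer_le_normalizer _ (commutator_eq_bot_iff_le_centralizer.1 h2 hx)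
  rw [mem_comap, mem_normalizer_iff]
  intro y
  constructor
  · intro hy
    exact (mem_normalizer_iff.1 h1 ⟨y, hle hy⟩).1 hy
  · intro hy
    have hyN : y ∈ N := by
      simpa [mul_assoc] using mul_mem (mul_mem (inv_mem x.2) (hle hy)) x.2
    exact (mem_normalizer_iff.1 h1 ⟨y, hyN⟩).2 hy

lemma Pair.layer_map_le (h : Pair M N) :
    (layer ↥M).map M.subtype ≤ (layer ↥N).map N.subtype := by
  have hE := h.swap.layer_map_le_A1
  rw [map_le_iff_le_comap, layer_le_iff]
  intro L hL
  rw [← map_le_iff_le_comap]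
  set L' := L.map M.subtype with hL'
  have hLA : L' ≤ A1 M N := (map_mono (comp_le_layer hL)).trans hE
  let X := M ⊓ N
  have hLX : L' ≤ X := hLA.trans (cm_le_right _ _)
  have hLXc : IsComponent (L'.subgroupOf X) := by
    refine ⟨?_, (qs_congr ((subgroupOfEquivOfLe hLX).trans
      (L.equivMapOfInjective _ M.subtype_injective).symm)).2 hL.2⟩
    have e : L'.subgroupOf X = L.comap (inclusion (inf_le_left : X ≤ M)) := by
      ext x
      exact ⟨fun ⟨y, hy, hyx⟩ => by
          rw [mem_comap, show inclusion (inf_le_left : X ≤ M) x = y from Subtype.ext hyx.symm]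
          exact hy,
        fun hx => ⟨_, hx, rfl⟩⟩
    rw [e]
    exact hL.1.comap _
  have hBX : A1 N M ≤ X := le_inf A1_le_right A1_le_left
  haveI : ((A1 N M).subgroupOf X).Normal :=
    normal_subgroupOf_of_le_normalizer (inf_le_right.trans le_nz_A1)
  rcases comp_normal_dichotomy hLXc (M := (A1 N M).subgroupOf X) with h1 | h1
  · have hLB : L' ≤ A1 N M := fun x hx => h1 (show (⟨x, hLX hx⟩ : ↥X) ∈ L'.subgroupOf X from hx)
    have hs : (L'.subgroupOf (A1 N M)).IsSubnormal := by
      have e : L'.subgroupOf (A1 N M) = (L'.subgroupOf X).comap (inclusion hBX) := by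
        ext x; rfl
      rw [e]; exact hLXc.1.comap _
    have hN : IsComponent (L'.subgroupOf N) :=
      ⟨sn_trans hLB A1_le_left hs
          (normal_subgroupOf_of_le_normalizer (le_nz_A1 (M := N) (N := M))).isSubnormal,
        (qs_congr ((subgroupOfEquivOfLe (hLB.trans A1_le_left)).trans
          (L.equivMapOfInjective _ M.subtype_injective).symm)).2 hL.2⟩
    intro x hx
    exact ⟨⟨x, A1_le_left (hLB hx)⟩, comp_le_layer hN hx, rfl⟩
  · exfalso
    have h2 : L' ≤ A1 N M := by
      refine le_trans ?_ h.centralizer_A1_le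
      refine le_inf (hLX.trans inf_le_right) fun x hx => mem_centralizer_iff.2 fun y hy => ?_
      have := mem_centralizer_iff.1 (commutator_eq_bot_iff_le_centralizer.1 h1
        (show (⟨x, hLX hx⟩ : ↥X) ∈ L'.subgroupOf X from hx)) ⟨y, hBX hy⟩ hy
      exact congrArg Subtype.val this
    refine comp_ne_bot hLXc ?_
    rw [← comp_perfect hLXc]
    exact commutator_eq_bot_mono h1 le_rfl fun x hx => h2 hx

lemma Pair.layer_eq_bot (h : Pair M N) : layer ↥M = ⊥ := by
  refine (map_eq_bot_iff_of_injective _ M.subtype_injective).1 ?_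
  have hE := le_antisymm h.layer_map_le h.swap.layer_map_le
  refine h.eq_bot_of_both (map_subtype_le _) (hE ▸ map_subtype_le _) (le_normalizer_map_subtype _) ?_
  rw [hE]; exact le_normalizer_map_subtype _

/-- The second core contains a normal `p`-subgroup of `M` for some prime. -/
lemma Pair.exists_P1 (h : Pair M N) : ∃ p : ℕ, p.Prime ∧ ∃ P : Subgroup G,
    P ≠ ⊥ ∧ IsPGroup p ↥P ∧ P ≤ A2 M N ∧ M ≤ normalizer (P : Set G) := by
  let S := (A2 M N).subgroupOf M
  haveI hS : S.Normal := normal_subgroupOf_of_le_normalizer le_nz_A2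
  have hlay : layer ↥S = ⊥ := by
    refine (map_eq_bot_iff_of_injective _ S.subtype_injective).1 ?_
    exact le_bot_iff.1 (h.layer_eq_bot ▸ layer_le_of_subnormal hS.isSubnormal)
  have hex : ∃ t : {t : ℕ // t.Prime}, pCore (t : ℕ) ↥S ≠ ⊥ := by
    by_contra hc
    push Not at hc
    refine h.A2M ?_
    have h0 : generalizedFittingSubgroup ↥S = ⊥ := by
      rw [generalizedFittingSubgroup, hlay, bot_sup_eq, fittingSubgroup_eq_iSup, iSup_eq_bot]
      exact hc
    have h3 := centralizer_gfs_le (G := ↥S)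
    rw [h0] at h3
    refine (Subgroup.eq_bot_iff_forall _).2 fun x hx => ?_
    have hxM : x ∈ M := cm_le _ _ hx
    have : (⟨⟨x, hxM⟩, hx⟩ : ↥S) ∈ (⊥ : Subgroup ↥S) := h3 (mem_centralizer_iff.2 fun y hy => by
      rw [mem_bot.1 (SetLike.mem_coe.1 hy), one_mul, mul_one])
    exact congrArg (fun y : ↥S => ((y : ↥M) : G)) (mem_bot.1 this)
  obtain ⟨⟨t, ht⟩, hne⟩ := hex
  refine ⟨t, ht, ((pCore t ↥S).map S.subtype).map M.subtype, ?_, ?_, ?_, le_normalizer_map_subtype _⟩
  · rwa [ne_eq, map_eq_bot_iff_of_injective _ M.subtype_injective,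
      map_eq_bot_iff_of_injective _ S.subtype_injective]
  · exact ((pCore_isPGroup t).map _).map _
  · rintro _ ⟨x, hx, rfl⟩
    exact (map_subtype_le (pCore t ↥S) hx : x ∈ S)

section prime

variable {p r q : ℕ} {P : Subgroup G}

lemma Pair.centralizer_le_of_P1 (h : Pair M N) (h0 : P ≠ ⊥) (hPA : P ≤ A2 M N)
    (hn : M ≤ normalizer (P : Set G)) : centralizer (P : Set G) ≤ M :=
  (Subgroup.centralizer_le_normalizer _).trans
    (h.normalizer_eq h0 (hPA.trans (cm_le _ _)) hn).le

lemma P1_le_locCore (hp : IsPGroup p ↥P) (hPA : P ≤ A2 M N) (hn : M ≤ normalizer (P : Set G)) :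
    P ≤ locCore p N :=
  le_locCore_of_le_A1 (hPA.trans A2_le_B1) (A1_le_right.trans hn) hp

lemma locCore_inf_le_nz (t : ℕ) (M N : Subgroup G) :
    M ⊓ N ≤ normalizer ((locCore t N ⊓ M : Subgroup G) : Set G) :=
  le_trans (le_inf (inf_le_right.trans (le_normalizer_locCore t N)) (inf_le_left.trans le_normalizer))
    inf_normalizer_le_normalizer_inf

/-- The local cores of `M ⊓ N` for primes other than `p` lie in those of `N`. -/
lemma Pair.locCore_inf_le (h : Pair M N) (hpp : p.Prime) (hqp : q.Prime) (hne : q ≠ p)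
    (h0 : P ≠ ⊥) (hp : IsPGroup p ↥P) (hPA : P ≤ A2 M N) (hn : M ≤ normalizer (P : Set G)) :
    locCore q (M ⊓ N) ≤ locCore q N := by
  haveI := Fact.mk hpp
  have hC := h.centralizer_le_of_P1 h0 hPA hn
  have hP2 := P1_le_locCore hp hPA hn
  let T := locCore p N ⊓ M
  let D := locCore q (M ⊓ N)
  have hDX : D ≤ M ⊓ N := locCore_le _ _
  have hD : (Nat.card ↥D).Coprime p := by
    haveI := Fact.mk hqp
    obtain ⟨n, hn'⟩ := IsPGroup.iff_card.1 (locCore_isPGroup q (M ⊓ N) : IsPGroup q ↥D)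
    rw [hn']
    exact Nat.Coprime.pow_left n ((Nat.coprime_primes hqp hpp).2 hne)
  have hTp : IsPGroup p ↥T := (locCore_isPGroup p N).to_le inf_le_left
  have hDT : ⁅D, T⁆ = ⊥ := by
    refine commutator_eq_bot_of_disjoint_normalizing ?_ (hDX.trans (locCore_inf_le_nz p M N))
      (le_trans (le_inf inf_le_right (inf_le_left.trans (locCore_le _ _))) (le_normalizer_locCore q _))
    rw [inf_comm]
    exact inf_eq_bot_of_pGroup_coprime hTp hD
  have hPT : P ≤ T := le_inf hP2 (hPA.trans (cm_le _ _))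
  have hDP2 : ⁅D, locCore p N⁆ = ⊥ := by
    refine axb_coprime (locCore_isPGroup p N) hTp (inf_le_left.trans le_normalizer) hD hDT
      ((hDX.trans inf_le_right).trans (le_normalizer_locCore p N)) ?_
    refine commutator_eq_bot_mono hDT le_rfl (le_inf inf_le_left ?_)
    exact inf_le_right.trans ((Subgroup.centralizer_le (show (P : Set G) ⊆ T from hPT)).trans hC)
  have hW : N ⊓ centralizer (locCore p N : Set G) ≤ A1 N M :=
    le_A1 (inf_le_right.trans ((Subgroup.centralizer_le (show (P : Set G) ⊆ _ from hP2)).trans hC))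
      inf_le_left (le_trans (le_inf le_normalizer ((le_normalizer_locCore p N).trans
        (Cfsg.Agent.Lib.Coprime.normalizer_le_normalizer_centralizer _))) inf_normalizer_le_normalizer_inf)
  refine le_locCore_of_le_A1 (le_trans (le_inf (hDX.trans inf_le_right)
    (commutator_eq_bot_iff_le_centralizer.1 hDP2)) hW) ?_ (locCore_isPGroup q _)
  exact (le_inf A1_le_right A1_le_left).trans (le_normalizer_locCore q _)

lemma Pair.prime_eq (h : Pair M N) (hpp : p.Prime) (hrp : r.Prime)
    (h0 : P ≠ ⊥) (hp : IsPGroup p ↥P) (hPA : P ≤ A2 M N) (hn : M ≤ normalizer (P : Set G))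
    {R₁ : Subgroup G} (hR0 : R₁ ≠ ⊥) (hr : IsPGroup r ↥R₁) (hRA : R₁ ≤ A2 N M)
    (hRn : N ≤ normalizer (R₁ : Set G)) : p = r := by
  by_contra hne
  haveI := Fact.mk hpp
  haveI := Fact.mk hrp
  have hC := h.centralizer_le_of_P1 h0 hPA hn
  have hP2 := P1_le_locCore hp hPA hn
  have hR2 : R₁ ≤ locCore r M := P1_le_locCore hr hRA hRn
  let U := locCore p M
  let R := locCore r M
  let T := locCore p N ⊓ M
  have hPT : P ≤ T := le_inf hP2 (hPA.trans (cm_le _ _))
  have hTX : T ≤ M ⊓ N := le_inf inf_le_right (inf_le_left.trans (locCore_le _ _))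
  have hTp : IsPGroup p ↥T := (locCore_isPGroup p N).to_le inf_le_left
  have hTU : T ≤ U := by
    refine le_trans ?_ (inf_comm N M ▸ h.swap.locCore_inf_le hrp hpp hne hR0 hr hRA hRn)
    exact fun x hx => ⟨⟨x, hTX hx⟩, le_pCore (N := T.subgroupOf (M ⊓ N))
      (hN := normal_subgroupOf_of_le_normalizer (locCore_inf_le_nz p M N)) hTp.comap_subtype hx, rfl⟩
  let C := centralizer (T : Set G)
  have hCM : C ≤ M := (Subgroup.centralizer_le (show (P : Set G) ⊆ T from hPT)).trans hC
  let R' := locCore r C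
  have hR'M : R' ≤ M := (locCore_le _ _).trans hCM
  have hR'R : R' ≤ R := by
    have hcop : (Nat.card ↥R').Coprime p := by
      obtain ⟨n, hn'⟩ := IsPGroup.iff_card.1 (locCore_isPGroup r C : IsPGroup r ↥R')
      rw [hn']
      exact Nat.Coprime.pow_left n ((Nat.coprime_primes hrp hpp).2 (Ne.symm hne))
    have hUC : ⁅R', U ⊓ C⁆ = ⊥ := by
      refine commutator_eq_bot_of_disjoint_normalizing ?_ ?_
        (inf_le_right.trans (le_normalizer_locCore r C))
      · rw [inf_comm]
        exact inf_eq_bot_of_pGroup_coprime ((locCore_isPGroup p M).to_le inf_le_left) hcop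
      · exact le_trans (le_inf (hR'M.trans (le_normalizer_locCore p M))
          ((locCore_le r C).trans le_normalizer)) inf_normalizer_le_normalizer_inf
    have hRU : ⁅R', U⁆ = ⊥ := axb_coprime (locCore_isPGroup p M) hTp (hTU.trans le_normalizer) hcop
      (commutator_eq_bot_iff_le_centralizer.2 (locCore_le r C))
      (hR'M.trans (le_normalizer_locCore p M)) hUC
    let W := M ⊓ centralizer (U : Set G)
    have hWn : M ≤ normalizer (W : Set G) := le_trans (le_inf le_normalizer
      ((le_normalizer_locCore p M).trans (Cfsg.Agent.Lib.Coprime.normalizer_le_normalizer_centralizer _)))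
      inf_normalizer_le_normalizer_inf
    have hR'W : R' ≤ W := le_inf hR'M (commutator_eq_bot_iff_le_centralizer.1 hRU)
    have hWC : W ≤ C := inf_le_right.trans (Subgroup.centralizer_le hTU)
    refine le_locCore_of_sn hR'M (sn_trans hR'W inf_le_left ?_
      (normal_subgroupOf_of_le_normalizer hWn).isSubnormal) (locCore_isPGroup r C)
    exact (normal_subgroupOf_of_le_normalizer (hWC.trans (le_normalizer_locCore r C))).isSubnormal
  have hRC : R ≤ C := by
    rw [← commutator_eq_bot_iff_le_centralizer]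
    refine commutator_eq_bot_mono (K := U) ?_ le_rfl hTU
    exact commutator_eq_bot_of_disjoint_normalizing (inf_locCore_eq_bot hrp hpp (Ne.symm hne) M M)
      ((locCore_le r M).trans (le_normalizer_locCore p M))
      ((locCore_le p M).trans (le_normalizer_locCore r M))
  have hRR' : R' = R := le_antisymm hR'R fun x hx => ⟨⟨x, hRC hx⟩, le_pCore
    (N := R.subgroupOf C)
    (hN := normal_subgroupOf_of_le_normalizer (hCM.trans (le_normalizer_locCore r M)))
    (locCore_isPGroup r M).comap_subtype hx, rfl⟩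
  have hRne : R ≠ ⊥ := ne_bot_of_le_ne_bot hR0 hR2
  have hPM : locCore p N ≤ M := by
    by_contra hc
    have hlt : T < locCore p N := lt_of_le_of_ne inf_le_left fun e => hc (inf_eq_left.1 e)
    obtain ⟨u, hu, huT, hun⟩ :=
      Cfsg.Agent.Lib.LocalChar.exists_mem_nz_of_lt (locCore_isPGroup p N) hlt
    refine huT ⟨hu, ?_⟩
    have h2 : u ∈ normalizer (R' : Set G) :=
      Cfsg.Agent.Lib.LocalChar.nz_le_nz_pCoreOf (p := r) C
        (Cfsg.Agent.Lib.Coprime.normalizer_le_normalizer_centralizer _ hun)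
    rw [hRR'] at h2
    exact (h.normalizer_eq hRne (locCore_le _ _) (le_normalizer_locCore r M)).le h2
  have hle : locCore p N ≤ U := fun x hx => hTU ⟨hx, hPM hx⟩
  have heq : locCore p N = U := eq_of_le_of_card_ge hle (h.card p).le
  refine ne_bot_of_le_ne_bot h0 hP2 (h.eq_bot_of_both hPM (locCore_le _ _) ?_ (le_normalizer_locCore p N))
  rw [heq]; exact le_normalizer_locCore p M

lemma Pair.locCore_le_other (h : Pair M N) (hpp : p.Prime) (hqp : q.Prime) (hne : q ≠ p)
    (h0 : P ≠ ⊥) (hp : IsPGroup p ↥P) (hPA : P ≤ A2 M N) (hn : M ≤ normalizer (P : Set G))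
    {R₁ : Subgroup G} (hR0 : R₁ ≠ ⊥) (hr : IsPGroup p ↥R₁) (hRA : R₁ ≤ A2 N M)
    (hRn : N ≤ normalizer (R₁ : Set G)) : locCore q N ≤ locCore q M := by
  have hP2 := P1_le_locCore hp hPA hn
  have h1 : locCore q N ≤ M := by
    refine le_trans ?_ (h.centralizer_le_of_P1 h0 hPA hn)
    refine le_trans (commutator_eq_bot_iff_le_centralizer.1 ?_) (Subgroup.centralizer_le hP2)
    exact commutator_eq_bot_of_disjoint_normalizing (inf_locCore_eq_bot hqp hpp hne N N)
      ((locCore_le q N).trans (le_normalizer_locCore p N))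
      ((locCore_le p N).trans (le_normalizer_locCore q N))
  refine le_trans ?_ (inf_comm N M ▸ h.swap.locCore_inf_le hpp hqp hne hR0 hr hRA hRn)
  exact fun x hx => ⟨⟨x, h1 hx, locCore_le q N hx⟩, le_pCore (N := (locCore q N).subgroupOf (M ⊓ N))
    (hN := normal_subgroupOf_of_le_normalizer (inf_le_right.trans (le_normalizer_locCore q N)))
    (locCore_isPGroup q N).comap_subtype hx, rfl⟩

lemma map_resOf [Fact p.Prime] {K : Subgroup G} (H : Subgroup ↥K) :
    (resOf p H).map K.subtype = resOf p (H.map K.subtype) := by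
  rw [Cfsg.Agent.Lib.LocalChar.resOf_eq_closure, Cfsg.Agent.Lib.LocalChar.resOf_eq_closure,
    MonoidHom.map_closure]
  congr 1
  ext x
  constructor
  · rintro ⟨y, ⟨hy, ho⟩, rfl⟩
    exact ⟨mem_map_of_mem _ hy, by rwa [orderOf_injective K.subtype K.subtype_injective]⟩
  · rintro ⟨⟨y, hy, rfl⟩, ho⟩
    exact ⟨y, ⟨hy, by rwa [orderOf_injective K.subtype K.subtype_injective] at ho⟩, rfl⟩

/-- The second core is a `p`-group. -/
lemma Pair.isPGroup_A2 (h : Pair M N) (hpp : p.Prime) (hne : locCore p N ≠ ⊥) :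
    IsPGroup p ↥(A2 M N) := by
  haveI := Fact.mk hpp
  let K := resOf p (A2 M N)
  suffices hK : K = ⊥ by
    refine isPGroup_of_no_pprime_elements fun x hx ho => ?_
    exact mem_bot.1 (hK.le (Cfsg.Agent.Lib.LocalChar.mem_resOf hx ho))
  by_contra hK
  have hKA : K ≤ A2 M N := resOf_le _
  have hKB : K ≤ A1 N M := hKA.trans A2_le_B1
  have hNK : normalizer (K : Set G) = M := h.normalizer_eq hK (hKA.trans (cm_le _ _))
    (le_nz_A2.trans (Cfsg.Agent.Lib.LocalChar.nz_le_nz_resOf _))
  let Q := locCore p N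
  let U := locCore p M
  let B := A1 N M
  have hAN : A2 M N ≤ N := A2_le_B1.trans A1_le_left
  have hQK : Q ≤ normalizer (K : Set G) := by
    have h1 := Cfsg.Agent.Lib.LocalChar.pCore_le_nz_resOf (p := p)
      (sn_of_le_A1 (A2_le_B1 (M := M) (N := N)) (A1_le_right.trans le_nz_A2))
    have h2 := (map_mono (f := N.subtype) h1).trans (le_normalizer_map _)
    rwa [map_resOf, map_subgroupOf_eq_of_le hAN] at h2
  have hQM : Q ≤ M := hNK ▸ hQK
  have hQB : Q ≤ B := le_A1 hQM (locCore_le _ _) (le_normalizer_locCore p N)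
  have hBM : B ≤ M := A1_le_right
  have hBN : B ≤ N := A1_le_left
  have hUB : U ⊓ B ≤ Q := le_locCore_of_le_A1 inf_le_right
    (le_trans (le_inf (hBM.trans (le_normalizer_locCore p M)) le_normalizer)
      inf_normalizer_le_normalizer_inf) ((locCore_isPGroup p M).to_le inf_le_left)
  let O := pCore p ↥N
  haveI : (B.subgroupOf N).Normal := normal_subgroupOf_of_le_normalizer le_nz_A1
  let π := QuotientGroup.mk' O
  haveI : ((B.subgroupOf N).map π).Normal := (inferInstance : (B.subgroupOf N).Normal).map π (QuotientGroup.mk'_surjective O)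
  let C0 := (centralizer (((B.subgroupOf N).map π : Subgroup _) : Set _)).comap π
  haveI : C0.Normal := by
    refine Normal.comap ?_ π
    infer_instance
  let C := C0.map N.subtype
  have hCn : N ≤ normalizer (C : Set G) := le_normalizer_map_subtype _
  have hcomm : ∀ x ∈ C, ∀ b ∈ B, x * b * x⁻¹ * b⁻¹ ∈ Q := by
    rintro _ ⟨x, hx, rfl⟩ b hb
    have h1 := mem_centralizer_iff.1 hx (π ⟨b, hBN hb⟩) (mem_map_of_mem _ hb)
    refine ⟨x * ⟨b, hBN hb⟩ * x⁻¹ * (⟨b, hBN hb⟩ : ↥N)⁻¹, (QuotientGroup.eq_one_iff _).1 ?_, rfl⟩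
    show π (x * ⟨b, hBN hb⟩ * x⁻¹ * (⟨b, hBN hb⟩ : ↥N)⁻¹) = 1
    rw [map_mul, map_mul, map_mul, ← h1, map_inv, map_inv, mul_inv_cancel_right, mul_inv_cancel]
  have hCK : C ≤ normalizer (K : Set G) := by
    have hres : resOf p (Q ⊔ K) = K := by
      rw [Cfsg.Agent.Lib.LocalChar.resOf_sup_pGroup (locCore_isPGroup p N) hQK,
        Cfsg.Agent.Lib.LocalChar.resOf_idem]
    refine le_trans ?_ (hres ▸ Cfsg.Agent.Lib.LocalChar.nz_le_nz_resOf (p := p) (Q ⊔ K))
    rw [le_nz_iff]
    intro x hx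
    have hxN : x ∈ N := map_subtype_le C0 hx
    suffices hle : Q ⊔ K ≤ (Q ⊔ K).comap (MulAut.conj x).toMonoidHom from fun s hs => by
      simpa using hle hs
    refine sup_le (fun y hy => mem_comap.2 ?_) fun y hy => mem_comap.2 ?_
    · refine mem_sup_left ?_
      simpa using (mem_normalizer_iff.1 (le_normalizer_locCore p N hxN) y).1 hy
    · have := mul_mem (mem_sup_left (T := K) (hcomm x hx y (hKB hy))) (mem_sup_right hy)
      simpa [mul_assoc] using this
  have hCB : C ≤ B := le_A1 (hNK ▸ hCK) (map_subtype_le _) hCn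
  have hU0 : U ⊓ N ≤ Q := by
    intro u hu
    refine hUB ⟨hu.1, hCB ⟨⟨u, hu.2⟩, mem_centralizer_iff.2 ?_, rfl⟩⟩
    rintro _ ⟨⟨b, hbN⟩, hb, rfl⟩
    have hbB : b ∈ B := hb
    have h1 : u * b * u⁻¹ * b⁻¹ ∈ U := by
      have := mul_mem hu.1 ((mem_normalizer_iff.1 (le_normalizer_locCore p M (hBM hbB)) u⁻¹).1
        (inv_mem hu.1))
      simpa [mul_assoc] using this
    have h2 : u * b * u⁻¹ * b⁻¹ ∈ B :=
      mul_mem ((mem_normalizer_iff.1 (le_nz_A1 hu.2) b).1 hbB) (inv_mem hbB)
    obtain ⟨c, hc, hce⟩ := hUB ⟨h1, h2⟩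
    have h3 : π (⟨u, hu.2⟩ * ⟨b, hbN⟩ * (⟨u, hu.2⟩ : ↥N)⁻¹ * (⟨b, hbN⟩ : ↥N)⁻¹) = 1 := by
      refine (QuotientGroup.eq_one_iff _).2 ?_
      rwa [← show c = (⟨u, hu.2⟩ * ⟨b, hbN⟩ * (⟨u, hu.2⟩ : ↥N)⁻¹ * (⟨b, hbN⟩ : ↥N)⁻¹)
        from Subtype.ext hce]
    rw [map_mul, map_mul, map_mul, map_inv, map_inv, mul_inv_eq_one, mul_inv_eq_iff_eq_mul] at h3
    exact h3.symm
  have hUQ : U ≤ Q := by
    by_contra hc
    have hnz : Q ≤ normalizer (U : Set G) := hQM.trans (le_normalizer_locCore p M)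
    have hpg : IsPGroup p ↥(U ⊔ Q) :=
      (isCoreClass_pGroup p).sup U Q hnz (locCore_isPGroup p M) (locCore_isPGroup p N)
    have hlt : Q < U ⊔ Q := lt_of_le_of_ne le_sup_right fun e => hc (e ▸ le_sup_left)
    obtain ⟨w, hw, hwQ, hwn⟩ := Cfsg.Agent.Lib.LocalChar.exists_mem_nz_of_lt hpg hlt
    obtain ⟨u, hu, v, hv, rfl⟩ := (Cfsg.Agent.Lib.LocalChar.mem_sup_iff_of_nz' hnz).1 hw
    refine hwQ (mul_mem (hU0 ⟨hu, ?_⟩) hv)
    have : u ∈ normalizer (Q : Set G) := by
      simpa using mul_mem hwn (inv_mem (le_normalizer hv))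
    exact (h.swap.normalizer_eq hne (locCore_le _ _) (le_normalizer_locCore p N)).le this
  have heq : U = Q := eq_of_le_of_card_ge hUQ (h.card p).ge
  refine hne (h.eq_bot_of_both hQM (locCore_le _ _) ?_ (le_normalizer_locCore p N))
  show M ≤ normalizer (Q : Set G)
  rw [← heq]; exact le_normalizer_locCore p M

end prime

lemma gfs_eq_of_subnormal {p : ℕ} [Fact p.Prime] {H : Subgroup G} (hH : H ≤ M)
    (hs : (H.subgroupOf M).IsSubnormal)
    (h : generalizedFittingSubgroup ↥M = pCore p ↥M) :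
    generalizedFittingSubgroup ↥H = pCore p ↥H := by
  refine le_antisymm ?_ ((pCore_le_fittingSubgroup p).trans le_sup_right)
  have h1 := gfs_le_of_subnormal hs
  rw [h] at h1
  let e := subgroupOfEquivOfLe hH
  have h2 : IsPGroup p ↥(generalizedFittingSubgroup ↥(H.subgroupOf M)) :=
    ((pCore_isPGroup (G := ↥M) p).to_le h1).of_injective
      ((generalizedFittingSubgroup ↥(H.subgroupOf M)).equivMapOfInjective _
        (H.subgroupOf M).subtype_injective).toMonoidHom (MulEquiv.injective _)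
  have h3 := gfs_map_le e.symm.toMonoidHom e.symm.surjective
  exact le_pCore ((h2.to_le h3).of_injective
    ((generalizedFittingSubgroup ↥H).equivMapOfInjective _ e.symm.injective).toMonoidHom
    (MulEquiv.injective _))

theorem main (h : Pair M N) : ∃ p : ℕ, p.Prime ∧ IsPGroup p ↥(A2 M N ⊔ A2 N M) ∧
    generalizedFittingSubgroup ↥M = pCore p ↥M ∧
    generalizedFittingSubgroup ↥(A1 M N) = pCore p ↥(A1 M N) ∧
    generalizedFittingSubgroup ↥N = pCore p ↥N ∧
    generalizedFittingSubgroup ↥(A1 N M) = pCore p ↥(A1 N M) := by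
  obtain ⟨p, hp, P, hP0, hPp, hPA, hPn⟩ := h.exists_P1
  obtain ⟨r, hr, R, hR0, hRp, hRA, hRn⟩ := h.swap.exists_P1
  obtain rfl := h.prime_eq hp hr hP0 hPp hPA hPn hR0 hRp hRA hRn
  haveI := Fact.mk hp
  have hbot : ∀ q : ℕ, q.Prime → q ≠ p → locCore q M = ⊥ ∧ locCore q N = ⊥ := by
    intro q hq hne
    have e := le_antisymm (h.swap.locCore_le_other hp hq hne hR0 hRp hRA hRn hP0 hPp hPA hPn)
      (h.locCore_le_other hp hq hne hP0 hPp hPA hPn hR0 hRp hRA hRn)
    have h0 : locCore q M = ⊥ := h.eq_bot_of_both (locCore_le _ _) (e ▸ locCore_le _ _)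
      (le_normalizer_locCore q M) (by rw [e]; exact le_normalizer_locCore q N)
    exact ⟨h0, e ▸ h0⟩
  have hgfs : ∀ {M' : Subgroup G}, layer ↥M' = ⊥ → (∀ q : ℕ, q.Prime → q ≠ p → locCore q M' = ⊥) →
      generalizedFittingSubgroup ↥M' = pCore p ↥M' := by
    intro M' hl hq
    rw [generalizedFittingSubgroup, hl, bot_sup_eq]
    refine le_antisymm ?_ (pCore_le_fittingSubgroup p)
    rw [fittingSubgroup_eq_iSup]
    refine iSup_le fun t => ?_
    rcases eq_or_ne (t : ℕ) p with e | e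
    · rw [e]
    · rw [(map_eq_bot_iff_of_injective _ M'.subtype_injective).1 (hq t t.2 e)]
      exact bot_le
  have hM := hgfs h.layer_eq_bot fun q hq hne => (hbot q hq hne).1
  have hN := hgfs h.swap.layer_eq_bot fun q hq hne => (hbot q hq hne).2
  refine ⟨p, hp, ?_, hM, ?_, hN, ?_⟩
  · refine (isCoreClass_pGroup p).sup _ _ ?_
      (h.isPGroup_A2 hp (ne_bot_of_le_ne_bot hP0 (P1_le_locCore hPp hPA hPn)))
      (h.swap.isPGroup_A2 hp (ne_bot_of_le_ne_bot hR0 (P1_le_locCore hRp hRA hRn)))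
    exact A2_le_A1.trans (A1_le_right.trans le_nz_A2)
  · exact gfs_eq_of_subnormal A1_le_left
      (normal_subgroupOf_of_le_normalizer le_nz_A1).isSubnormal hM
  · exact gfs_eq_of_subnormal A1_le_left
      (normal_subgroupOf_of_le_normalizer le_nz_A1).isSubnormal hN

end Cfsg.Agent.Lib.ThompsonWielandt
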